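import Cfsg.Agent.H978.NB.Char
import Cfsg.Agent.LThreeCo1T8.Main
import Cfsg.Agent.S0399

/-!
# Nonprincipal `p`-blocks of `Co₁`, `p = 3` (helper493, for helper718)

`p = 3` : the centralizer `3 × A₉` of an element of type `3⁸`.
-/

set_option autoImplicit false

namespace Cfsg.Agent.H493.NB

open Cfsg Cfsg.Agent Cfsg.Agent.H7.NBp Cfsg.Agent.H718.NBIH Cfsg.Agent.H978.NB Subgroup

/-- a simple group of order divisible by 4 is not commutative -/
theorem not_comm_of {T : Type*} [Group T] [IsSimpleGroup T] {n : ℕ} (hn : Nat.card T = n) (h4 : 4 ∣ n) :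
    ¬ IsMulCommutative T := by
  intro h
  let _ : CommGroup T := { (inferInstance : Group T) with mul_comm := h.is_comm.comm }
  have h3 : (Nat.card T).Prime := IsSimpleGroup.prime_card
  rw [hn] at h3
  have h5 : (2 : ℕ) ∣ n := (by norm_num : (2 : ℕ) ∣ 4).trans h4
  have h6 := (Nat.prime_dvd_prime_iff_eq Nat.prime_two h3).1 h5
  rw [← h6] at h4
  norm_num at h4

theorem card_model : Nat.card Spor.Co1 = 4157776806543360000 := Cfsg.Agent.S0399.result.2

theorem not_dvd_cent : ¬ 3 ^ 6 ∣ Nat.card ↥(centralizer ({LThreeCo1T8.Main.xx} : Set Spor.Co1)) := by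
  have h1 := LThreeCo1T8.Main.card_cent
  have h2 : 181440 ∣ Nat.card ↥(centralizer ({LThreeCo1T8.Main.xx} : Set Spor.Co1)) := by
    rw [← LThreeCo1T8.Main.card_AA]
    exact Subgroup.card_dvd_of_le LThreeCo1T8.Main.AA_le
  intro h3
  obtain ⟨k, hk⟩ := h2
  rw [hk] at h1 h3
  have hk3 : k ≤ 3 := by omega
  interval_cases k
  · have := Nat.card_pos (α := ↥(centralizer ({LThreeCo1T8.Main.xx} : Set Spor.Co1)))
    omega
  all_goals norm_num at h3

theorem exists_seven : ∃ z : Spor.Co1, orderOf z = 7 ∧ z * LThreeCo1T8.Main.xx = LThreeCo1T8.Main.xx * z := by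
  have : Fact (Nat.Prime 7) := ⟨by norm_num⟩
  obtain ⟨z, hz⟩ := exists_prime_orderOf_dvd_card' (G := ↥LThreeCo1T8.Main.AA) 7
    (by rw [LThreeCo1T8.Main.card_AA]; norm_num)
  refine ⟨z, by rw [Subgroup.orderOf_coe]; exact hz, ?_⟩
  exact (mem_centralizer_singleton_iff.1 (LThreeCo1T8.Main.AA_le z.2))

/-- `Co₁`, `p = 3` -/
theorem nb_co1_three [Fact (Nat.Prime 3)] (S : Type) [Group S] [Finite S] [IsSimpleGroup S] (h : Cfsg.Spor.IsoCo1 S)
    (ih : IH 3 (Nat.card S)) : NB 3 S := by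
  obtain ⟨e⟩ := h
  have hc : Nat.card S = 4157776806543360000 := (Nat.card_congr e.toEquiv).trans card_model
  have : Finite Spor.Co1 := Finite.of_equiv S e.toEquiv
  have : IsSimpleGroup Spor.Co1 := e.symm.isSimpleGroup
  have hna : ¬ IsMulCommutative Spor.Co1 := not_comm_of card_model (by norm_num)
  refine NB.iso e.symm ?_
  rw [hc, ← card_model] at ih
  obtain ⟨z, hz, hzx⟩ := exists_seven
  refine nb_of_commute hna ih (r := 7) (a := 5) LThreeCo1T8.Main.order_x (by norm_num) (by norm_num) hz hzx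
    not_dvd_cent ?_
  intro j hj hj5
  interval_cases j <;> norm_num

end Cfsg.Agent.H493.NB
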