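import Cfsg.Agent.LThreeMB.Quo
import Cfsg.Agent.H7.NBpComp

/-!
# `NB p` of `C(t)/⟨t⟩` from the centralizer of a commuting `p`-element (helper493)
-/

set_option autoImplicit false

namespace Cfsg.Agent.H493.NB

open Cfsg Cfsg.Agent Cfsg.Agent.H7.NBp Cfsg.Agent.LThreeMB
open Subgroup (centralizer mem_centralizer_singleton_iff)

variable {G : Type*} [Group G]

/-- from `C(x)/⟨x⟩` -/
theorem of_XX [Finite G] {p : ℕ} [Fact p.Prime] {x : G} (hx : ∃ k : ℕ, x ^ p ^ k = 1) {S : Type*} [Group S]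
    (e : XX x ≃* S) (h : NB p S) : NB p G := by
  refine NB.of_centralizer_singleton x hx ?_
  refine NB.of_surjective (QuotientGroup.mk' (Zx x)) (QuotientGroup.mk'_surjective _) ?_ (NB.iso e.symm h)
  rw [QuotientGroup.ker_mk']
  show Subgroup.zpowers (self x) ≤ _
  rw [Subgroup.zpowers_le]
  exact self_mem_center x

/-- **`C(t)/⟨t⟩`**, `t` an involution, `x` an element of order `p` commuting with `t`. -/
theorem of_cover_inv [Finite G] {p : ℕ} [hp : Fact p.Prime] (hp2 : p ≠ 2) {x t : G} (hx : orderOf x = p)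
    (hxt : t * x = x * t) (htt : t * t = 1)
    {Z : Subgroup ↥(centralizer ({t} : Set G))} [Z.Normal] (hZ : ∀ z ∈ Z, z = 1 ∨ z = self t) (htZ : self t ∈ Z)
    {X : Type*} [Group X] (i : XX x →* X) (hi : Function.Injective i) (N : Subgroup X)
    (hN : ∀ c ∈ centralizer ({i (mk x hxt)} : Set X), ∀ n ∈ N, c * n * c⁻¹ ∈ N) (hNr : N ≤ i.range)
    (hNc : N ≤ centralizer ({i (mk x hxt)} : Set X))
    {S : Type*} [Group S] (π : ↥N →* S) (hπs : Function.Surjective π)
    (hπ : ∀ n : ↥N, π n = 1 → n = 1 ∨ (n : X) = i (mk x hxt)) (hπt : ∀ n : ↥N, (n : X) = i (mk x hxt) → π n = 1)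
    (h : NB p S) : NB p (↥(centralizer ({t} : Set G)) ⧸ Z) := by
  classical
  have hcomm : ∀ g : ↥(centralizer ({t} : Set G)), (g : G) * t = t * g := fun g =>
    mem_centralizer_singleton_iff.1 g.2
  have hxp : x ^ p = 1 := by rw [← hx, pow_orderOf_eq_one]
  -- `x` in `C(t)`
  let x' : ↥(centralizer ({t} : Set G)) := ⟨x, mem_centralizer_singleton_iff.2 hxt.symm⟩
  have hself : ((self t : ↥(centralizer ({t} : Set G))) : G) = t := rfl
  -- `A = C(x) ∩ C(t)`
  let A : Subgroup ↥(centralizer ({t} : Set G)) :=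
    (centralizer ({x} : Set G)).comap (centralizer ({t} : Set G)).subtype
  have hA : ∀ g : ↥(centralizer ({t} : Set G)), g ∈ A ↔ (g : G) * x = x * g := fun g =>
    mem_centralizer_singleton_iff
  let γ : ↥A →* ↥(centralizer ({x} : Set G)) :=
    ((centralizer ({t} : Set G)).subtype.comp A.subtype).codRestrict (centralizer ({x} : Set G)) fun g => g.2
  let β : ↥A →* X := i.comp ((QuotientGroup.mk' (Zx x)).comp γ)
  have hβ : ∀ g : ↥A, ∀ hg : ((g : ↥(centralizer ({t} : Set G))) : G) * x = x * ((g : ↥(centralizer ({t} : Set G))) : G),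
      β g = i (mk x hg) := fun g hg => rfl
  have htA : self t ∈ A := (hA _).2 hxt
  have hβt : β ⟨self t, htA⟩ = i (mk x hxt) := rfl
  let K₁ : Subgroup ↥A := N.comap β
  let K₀ : Subgroup ↥(centralizer ({t} : Set G)) := K₁.map A.subtype
  have hK₀ : ∀ g : ↥(centralizer ({t} : Set G)), g ∈ K₀ ↔ ∃ hg : g ∈ A, β ⟨g, hg⟩ ∈ N := by
    intro g
    constructor
    · rintro ⟨k, hk, rfl⟩
      exact ⟨k.2, hk⟩
    · rintro ⟨hg, h1⟩
      exact ⟨⟨g, hg⟩, h1, rfl⟩
  let q : ↥(centralizer ({t} : Set G)) →* ↥(centralizer ({t} : Set G)) ⧸ Z := QuotientGroup.mk' Z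
  have hq1 : ∀ g, q g = 1 ↔ g ∈ Z := fun g => QuotientGroup.eq_one_iff g
  let K : Subgroup (↥(centralizer ({t} : Set G)) ⧸ Z) := K₀.map q
  -- the map onto `K`
  let α : ↥K₁ →* ↥K := (q.comp (A.subtype.comp K₁.subtype)).codRestrict K fun k =>
    ⟨(k : ↥A), ⟨(k : ↥A), k.2, rfl⟩, rfl⟩
  have hαs : Function.Surjective α := by
    rintro ⟨y, g, ⟨k, hk, rfl⟩, rfl⟩
    exact ⟨⟨k, hk⟩, rfl⟩
  let φ : ↥K₁ →* S := π.comp ((β.comp K₁.subtype).codRestrict N fun k => k.2)
  have hφ : ∀ k : ↥K₁, φ k = π ⟨β k, k.2⟩ := fun k => rfl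
  obtain ⟨f, hf⟩ := exists_fac α hαs φ (by
    intro k hk
    have h1 : q (k : ↥A) = 1 := congrArg Subtype.val hk
    rw [hφ]
    rcases hZ _ ((hq1 _).1 h1) with h2 | h2
    · have h3 : (k : ↥A) = 1 := Subtype.ext h2
      have h4 : (⟨β k, k.2⟩ : ↥N) = 1 := Subtype.ext (by show β k = 1; rw [h3, map_one])
      rw [h4, map_one]
    · apply hπt
      show β k = i (mk x hxt)
      have h3 : (k : ↥A) = ⟨self t, htA⟩ := Subtype.ext h2
      rw [h3, hβt])
  have hQ : IsPGroup p (Subgroup.zpowers (q x')) := by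
    rintro ⟨y, hy⟩
    obtain ⟨j, rfl⟩ := Subgroup.mem_zpowers_iff.1 hy
    refine ⟨1, Subtype.ext ?_⟩
    show (q x' ^ j) ^ p ^ 1 = 1
    have h1 : x' ^ p = 1 := Subtype.ext hxp
    rw [pow_one, ← zpow_natCast, ← zpow_mul, mul_comm, zpow_mul, zpow_natCast, ← map_pow, h1, map_one, one_zpow]
  have hcent : ∀ c : ↥(centralizer ({t} : Set G)), q c ∈ centralizer ((Subgroup.zpowers (q x') : Subgroup _) : Set _) →
      c ∈ A := by
    intro c hc
    rw [hA]
    have h1 : q x' * q c = q c * q x' := (Subgroup.mem_centralizer_iff.1 hc) _ (Subgroup.mem_zpowers _)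
    have h2 : q (c * x' * c⁻¹ * x'⁻¹) = 1 := by
      rw [map_mul, map_mul, map_mul, map_inv, map_inv, ← h1]; group
    rcases hZ _ ((hq1 _).1 h2) with h3 | h3
    · have h4 : c * x' * c⁻¹ = x' := mul_inv_eq_one.1 h3
      have h5 : (c : G) * x * (c : G)⁻¹ = x := congrArg Subtype.val h4
      rw [mul_inv_eq_iff_eq_mul] at h5
      exact h5
    · have h4 : c * x' * c⁻¹ = self t * x' := mul_inv_eq_iff_eq_mul.1 h3
      have h5 : (c : G) * x * (c : G)⁻¹ = t * x := congrArg Subtype.val h4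
      have h6 : (t * x) ^ p = 1 := by rw [← h5, conj_pow, hxp, mul_one, mul_inv_cancel]
      have h7 : (t * x) ^ p = t ^ p := by
        have h8 : Commute t x := hxt
        rw [h8.mul_pow, hxp, mul_one]
      obtain ⟨m, hm⟩ := hp.out.odd_of_ne_two hp2
      have h8 : t ^ p = t := by
        rw [hm, pow_succ, pow_mul, pow_two, htt, one_pow, one_mul]
      have h9 : t = 1 := by rw [← h8, ← h7, h6]
      have h10 : c * x' * c⁻¹ = x' := by
        rw [h4]
        apply Subtype.ext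
        show t * x = x
        rw [h9, one_mul]
      have h11 : (c : G) * x * (c : G)⁻¹ = x := congrArg Subtype.val h10
      exact mul_inv_eq_iff_eq_mul.1 h11
  refine NB.of_cover (Subgroup.zpowers (q x')) hQ K ?_ ?_ f ?_ ?_ h
  · rintro _ ⟨g, hg, rfl⟩
    obtain ⟨hgA, -⟩ := (hK₀ g).1 hg
    rw [Subgroup.mem_centralizer_iff]
    intro y hy
    obtain ⟨j, rfl⟩ := Subgroup.mem_zpowers_iff.1 hy
    have h1 : Commute x' g := Subtype.ext ((hA g).1 hgA).symm
    have h2 : Commute (q x') (q g) := h1.map q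
    exact (h2.zpow_left j)
  · intro c hc k hk
    obtain ⟨c, rfl⟩ := QuotientGroup.mk'_surjective Z c
    obtain ⟨k, hk, rfl⟩ := hk
    have hcA := hcent c hc
    obtain ⟨hkA, hkN⟩ := (hK₀ k).1 hk
    refine ⟨c * k * c⁻¹, (hK₀ _).2 ⟨A.mul_mem (A.mul_mem hcA hkA) (A.inv_mem hcA), ?_⟩, ?_⟩
    · have h1 : β ⟨c * k * c⁻¹, A.mul_mem (A.mul_mem hcA hkA) (A.inv_mem hcA)⟩ =
          β ⟨c, hcA⟩ * β ⟨k, hkA⟩ * (β ⟨c, hcA⟩)⁻¹ := by
        rw [← map_mul, ← map_inv, ← map_mul]
        rfl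
      rw [h1]
      refine hN _ ?_ _ hkN
      rw [mem_centralizer_singleton_iff, ← hβt, ← map_mul, ← map_mul]
      exact congrArg β (Subtype.ext (Subtype.ext (hcomm c)))
    · rw [map_mul, map_mul, map_inv]
  · intro s
    obtain ⟨n, rfl⟩ := hπs s
    obtain ⟨u, hu⟩ := hNr n.2
    obtain ⟨g, hg, rfl⟩ := exists_mk u
    have hgt : g * t = t * g := by
      have h1 := mem_centralizer_singleton_iff.1 (hNc n.2)
      rw [← hu, ← map_mul, ← map_mul] at h1
      have h2 : mk x hg * mk x hxt = mk x hxt * mk x hg := hi h1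
      have h3 : (g * t) * x = x * (g * t) := by rw [mul_assoc, hxt, ← mul_assoc, hg, mul_assoc]
      have h4 : (t * g) * x = x * (t * g) := by rw [mul_assoc, hg, ← mul_assoc, hxt, mul_assoc]
      have h5 : mk x h4 = mk x h3 := h2.symm
      obtain ⟨j, hj⟩ := (mk_eq_mk h4 h3).1 h5
      -- `t g x ^ j = g t`
      have c1 : Commute t x := hxt
      have c2 : Commute g x := hg
      have h6 : g * t * g⁻¹ = t * x ^ j := by
        rw [← hj]
        have h7 : g * x ^ j = x ^ j * g := (c2.zpow_right j)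
        calc t * g * x ^ j * g⁻¹ = t * (g * x ^ j) * g⁻¹ := by group
          _ = t * x ^ j := by rw [h7]; group
      have h7 : (t * x ^ j) * (t * x ^ j) = 1 := by
        rw [← h6]
        calc g * t * g⁻¹ * (g * t * g⁻¹) = g * (t * t) * g⁻¹ := by group
          _ = 1 := by rw [htt]; group
      have h8 : x ^ j * x ^ j = 1 := by
        have h9 : x ^ j * t = t * x ^ j := (c1.zpow_right j).symm
        calc x ^ j * x ^ j = (t * t) * (x ^ j * x ^ j) := by rw [htt, one_mul]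
          _ = t * (t * x ^ j) * x ^ j := by group
          _ = t * (x ^ j * t) * x ^ j := by rw [h9]
          _ = (t * x ^ j) * (t * x ^ j) := by group
          _ = 1 := h7
      have h9 : (x ^ j) ^ p = 1 := by rw [← zpow_natCast, ← zpow_mul, mul_comm, zpow_mul, zpow_natCast, hxp, one_zpow]
      have h10 : x ^ j = 1 := by
        obtain ⟨m, hm⟩ := hp.out.odd_of_ne_two hp2
        rw [hm, pow_succ, pow_mul, pow_two, h8, one_pow, one_mul] at h9
        exact h9
      rw [h10, mul_one, mul_inv_eq_iff_eq_mul] at h6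
      exact h6
    let g' : ↥(centralizer ({t} : Set G)) := ⟨g, mem_centralizer_singleton_iff.2 hgt⟩
    have hgA : g' ∈ A := (hA _).2 hg
    have hβg : β ⟨g', hgA⟩ = n := hu
    have hgN : (⟨g', hgA⟩ : ↥A) ∈ K₁ := by
      show β ⟨g', hgA⟩ ∈ N
      rw [hβg]
      exact n.2
    refine ⟨α ⟨⟨g', hgA⟩, hgN⟩, ?_⟩
    rw [hf, hφ]
    exact congrArg π (Subtype.ext hβg)
  · intro κ hκ
    obtain ⟨k, rfl⟩ := hαs κ
    rw [MonoidHom.mem_ker, hf, hφ] at hκ
    have key : ∃ j : ℤ, q (k : ↥A) = q x' ^ j := by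
      have hk : ((k : ↥A) : ↥(centralizer ({t} : Set G))) ∈ A := (k : ↥A).2
      rcases hπ _ hκ with h1 | h1
      · have h2 : β k = 1 := congrArg Subtype.val h1
        have h3 : i (mk x ((hA _).1 hk)) = i 1 := by rw [map_one, ← h2]; rfl
        obtain ⟨j, hj⟩ := (mk_eq_one _).1 (hi h3)
        refine ⟨j, ?_⟩
        rw [← map_zpow]
        exact congrArg q (Subtype.ext hj.symm)
      · have h2 : β k = i (mk x hxt) := h1
        have h3 : i (mk x hxt) = i (mk x ((hA _).1 hk)) := h2.symm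
        obtain ⟨j, hj⟩ := (mk_eq_mk hxt ((hA _).1 hk)).1 (hi h3)
        refine ⟨j, ?_⟩
        have h4 : ((k : ↥A) : ↥(centralizer ({t} : Set G))) = self t * x' ^ j := Subtype.ext hj.symm
        rw [h4, map_mul, (hq1 _).2 htZ, one_mul, map_zpow]
    obtain ⟨j, hj⟩ := key
    rw [Subgroup.mem_center_iff]
    rintro ⟨_, g, hg, rfl⟩
    obtain ⟨hgA, -⟩ := (hK₀ g).1 hg
    apply Subtype.ext
    show q g * q (k : ↥A) = q (k : ↥A) * q g
    rw [hj]
    have h1 : Commute x' g := Subtype.ext ((hA g).1 hgA).symm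
    exact ((h1.map q).zpow_left j).symm

end Cfsg.Agent.H493.NB
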