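import Cfsg.Agent.H493.NB.Six
import Cfsg.Agent.H493.NB.CoverAbs
import Cfsg.Agent.LThreeMB.CoOneFin
import Cfsg.Agent.LThreeMB.KPair
import Cfsg.Agent.LThreeMB.Twelve
import Cfsg.Agent.MFive.Row
import Cfsg.Agent.MFiveHN.Closed
import Cfsg.Agent.CTwoTab.FiTF
import Cfsg.Agent.MonsterN.LitFin

/-!
# Nonprincipal `3`- and `5`-blocks of `M`, nonprincipal `3`-blocks of `B` (helper493)
-/

set_option autoImplicit false
set_option maxRecDepth 100000

namespace Cfsg.Agent.H493.NB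

open Cfsg Cfsg.Agent Cfsg.Agent.H7.NBp
open Cfsg.Agent.MonsterX Cfsg.Agent.MonsterX.InstData Cfsg.Agent.MonsterX.MainPack Cfsg.Agent.MonsterX.MainSimple
open Cfsg.Agent.MonsterX.MainBasic Cfsg.Agent.MonsterN Cfsg.Agent.LThree Cfsg.Agent.LThreeMB
open Cfsg.Agent.MonsterU.Ch
open Cfsg.Agent.MonsterU.Lam2 (L2 IsType)
open Cfsg.Spor (Co1)
open Subgroup (centralizer mem_centralizer_singleton_iff)

/-- **The Monster, `p = 5`.** -/
theorem monster_five (h : NB 5 Cfsg.Spor.HN) : NB 5 Cfsg.Spor.Monster := by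
  have hp5 : Fact (Nat.Prime 5) := ⟨Nat.prime_five⟩
  obtain ⟨f⟩ := Cfsg.Agent.MonsterP.Equiv.equiv
  refine NB.iso f.symm ?_
  have := MFive.Row.finite_model
  have := MFive.Row.simple_model
  have hc := KChart.chart KDone.lft MFive.Row.hc
  obtain ⟨x, hx, hxs⟩ := MFive.KPair.exists_order hc Nat.prime_five (by decide)  MFiveHN.Cent.order_x
  obtain ⟨e⟩ := MFiveHN.Closed.hnEight hc x hx (by rw [hxs]; exact MFiveHN.Inst.fr_xx)
  refine of_XX (x := (x : ↥InstData.M.G)) ⟨1, ?_⟩ e h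
  rw [pow_one, ← hx, ← Subgroup.orderOf_coe, pow_orderOf_eq_one]

/-- an element of order 3 of the model with `C(x)/⟨x⟩ ≅ Fi24'` -/
theorem exists_fi : ∃ x : ↥InstData.M.G, orderOf x = 3 ∧ Spor.IsoFi24' (XX x) := by
  have := MFive.Row.finite_model
  have := MFive.Row.simple_model
  have I : CoOne := CoOneFin.coOne
  have h := KChart.chart KDone.lft MFive.Row.hc
  obtain ⟨s, hs, hfs, ht, h4⟩ := I.psu
  obtain ⟨x, hx, rfl⟩ := KPair.exists_order_three h hs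
  exact ⟨x, by rw [Subgroup.orderOf_coe]; exact hx, iso_fi24 h hx hfs (by rw [hfs]; exact I.twelve) ht h4⟩

/-- **The Monster, `p = 3`.** -/
theorem monster_three (h : NB 3 Cfsg.Spor.Fi24') : NB 3 Cfsg.Spor.Monster := by
  have hp3 : Fact (Nat.Prime 3) := ⟨Nat.prime_three⟩
  obtain ⟨f⟩ := Cfsg.Agent.MonsterP.Equiv.equiv
  refine NB.iso f.symm ?_
  have := MFive.Row.finite_model
  obtain ⟨x, hx, ⟨e⟩⟩ := exists_fi
  refine of_XX (x := x) ⟨1, ?_⟩ e h
  rw [pow_one, ← hx, pow_orderOf_eq_one]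

end Cfsg.Agent.H493.NB
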