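import Cfsg.Agent.H493.NB.Mon
import Cfsg.Agent.OddHalf.D4.Spor.FiTF
import Cfsg.Agent.LThreeB.FromM
import Cfsg.Agent.MonsterN.ModelB

/-!
# Nonprincipal `3`-blocks of `B` (helper493)

`x` of order 3 in the Monster with `C(x)/⟨x⟩ ≅ Fi24'`, `τ = a b` a product of two commuting transpositions, `t` the
involution of `C(x)` over `τ`: `t` is of class 2A (`3 ^ 10` divides `|C(t)|`), `B ≅ C(t)/⟨t⟩`, the centralizer of the
image of `x` in `B` has a normal subgroup with central quotient `Fi22`.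
-/

set_option autoImplicit false
set_option maxRecDepth 100000

namespace Cfsg.Agent.H493.NB

open Cfsg Cfsg.Agent Cfsg.Agent.H7.NBp
open Cfsg.Agent.MonsterX Cfsg.Agent.MonsterX.InstData Cfsg.Agent.MonsterX.MainPack Cfsg.Agent.MonsterX.MainSimple
open Cfsg.Agent.MonsterX.MainBasic Cfsg.Agent.MonsterN Cfsg.Agent.LThree Cfsg.Agent.LThreeMB
open Cfsg.Agent.MonsterU.Ch Cfsg.Agent.MonsterP
open Cfsg.Spor (Co1 Fi24)
open Cfsg.Agent.R08 Cfsg.Agent.R08.FiTwentyFour
open Cfsg.Agent.CTwoTab.FiTF (N eN)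
open scoped commutatorElement
open Subgroup (centralizer mem_centralizer_singleton_iff)

/-- two commuting transpositions of `Fi24` -/
theorem exists_pair : ∃ (a b : Fi24) (_ : TetFi24A.At a b) (τ : Spor.Fi24'), (τ : Fi24) = a * b := by
  have h3 := KFacts.FiTF.Tet.isTet (t := 0) (by norm_num)
  obtain ⟨P⟩ := TetFi24A.exists_at h3.ha h3.hb h3.nab h3.ab
  have h := CTwoTab.FiTF.Cab_le P.z.2
  exact ⟨_, _, P, ⟨(P.z : Fi24), h⟩, P.hz⟩

theorem comm_mem {a b : Fi24} (P : TetFi24A.At a b) {τ : Spor.Fi24'} (hτ : (τ : Fi24) = a * b) {x y : Spor.Fi24'}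
    (hx : x ∈ centralizer ({τ} : Set Spor.Fi24')) (hy : y ∈ centralizer ({τ} : Set Spor.Fi24')) :
    ⁅x, y⁆ ∈ N a b := by
  rw [CTwoTab.FiTF.mem_N]
  have h := CTwoTab.FiTF.comm_fix (CTwoTab.FiTF.fix_or_swap P hτ hx) (CTwoTab.FiTF.fix_or_swap P hτ hy)
  have e : ((⁅x, y⁆ : Spor.Fi24') : Fi24) = ⁅(x : Fi24), (y : Fi24)⁆ := by
    rw [commutatorElement_def, commutatorElement_def]
    push_cast
    rfl
  rw [mem_Cab, e]
  refine ⟨?_, h.1, h.2⟩
  rw [← e]
  exact mem_commutator_iff.1 (⁅x, y⁆ : Spor.Fi24').2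

/-- the involution over an involution of `C(x)/⟨x⟩` -/
theorem exists_lift {G : Type*} [Group G] {x : G} (hx : orderOf x = 3) {u : XX x} (huu : u * u = 1) :
    ∃ (t : G) (ht : t * x = x * t), t * t = 1 ∧ mk x ht = u := by
  obtain ⟨g, hg, rfl⟩ := exists_mk u
  have h1 : (g * g) * x = x * (g * g) := by rw [mul_assoc, hg, ← mul_assoc, hg, mul_assoc]
  have h2 : mk x h1 = 1 := huu
  obtain ⟨j, hj⟩ := (mk_eq_one h1).1 h2
  have h3 : (g * (g * g)) * x = x * (g * (g * g)) := by rw [mul_assoc, h1, ← mul_assoc, hg, mul_assoc]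
  refine ⟨g * (g * g), h3, ?_, ?_⟩
  · have h4 : g * (g * g) * (g * (g * g)) = (g * g) ^ 3 := by
      simp only [pow_succ, pow_zero, one_mul, mul_assoc]
    rw [h4, ← hj, ← zpow_natCast, ← zpow_mul, mul_comm, zpow_mul, zpow_natCast, ← hx, pow_orderOf_eq_one, one_zpow]
  · have h4 : mk x h3 = mk x hg * mk x h1 := rfl
    rw [h4, h2, mul_one]

/-- the order of the centralizer of `z` -/
theorem not_dvd_z : ¬ 3 ^ 10 ∣ Nat.card ↥(centralizer ({KDone.K.z} : Set ↥InstData.M.G)) := by
  have hz : KDone.K.z = zG LitFin.all.hG := Subtype.ext KDone.lnk.z_eq.symm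
  rw [hz]
  intro h
  have hfin := MFive.Row.finite_model
  have hmem := fun g : ↥InstData.M.G =>
    mem_cent_iff LitFin.all.hG LitFin.all.hR LitFin.all.hL LitFin.all.hO LitFin.all.hT g
  let ι : ↥(centralizer ({zG LitFin.all.hG} : Set ↥InstData.M.G)) →* ↥InstData.M.C :=
    { toFun := fun g => ⟨(g : ↥InstData.M.G), (hmem _).1 g.2⟩
      map_one' := rfl
      map_mul' := fun _ _ => rfl }
  have hι : Function.Injective ι := by
    intro a b hab
    have h1 := congrArg Subtype.val hab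
    exact Subtype.ext (Subtype.ext h1)
  have h1 : Nat.card ↥(centralizer ({zG LitFin.all.hG} : Set ↥InstData.M.G)) ∣ Nat.card ↥InstData.M.C :=
    Subgroup.card_dvd_of_injective ι hι
  rw [card_C LitFin.all.hG] at h1
  have h2 := h.trans h1
  norm_num at h2

/-- commuting modulo `⟨x⟩` with an involution is commuting -/
theorem comm_of_mk {G : Type*} [Group G] {p : ℕ} (hp2 : Odd p) {x g t : G} (hx : orderOf x = p)
    (hg : g * x = x * g) (hxt : t * x = x * t) (htt : t * t = 1) (h : mk x hg * mk x hxt = mk x hxt * mk x hg) :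
    g * t = t * g := by
  have hxp : x ^ p = 1 := by rw [← hx, pow_orderOf_eq_one]
  have h3 : (g * t) * x = x * (g * t) := by rw [mul_assoc, hxt, ← mul_assoc, hg, mul_assoc]
  have h4 : (t * g) * x = x * (t * g) := by rw [mul_assoc, hg, ← mul_assoc, hxt, mul_assoc]
  have h5 : mk x h4 = mk x h3 := h.symm
  obtain ⟨j, hj⟩ := (mk_eq_mk h4 h3).1 h5
  have c1 : Commute t x := hxt
  have c2 : Commute g x := hg
  have h6 : g * t * g⁻¹ = t * x ^ j := by
    rw [← hj]
    have h7 : g * x ^ j = x ^ j * g := (c2.zpow_right j)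
    calc t * g * x ^ j * g⁻¹ = t * (g * x ^ j) * g⁻¹ := by group
      _ = t * x ^ j := by rw [h7]; group
  have h7 : (t * x ^ j) * (t * x ^ j) = 1 := by
    rw [← h6]
    calc g * t * g⁻¹ * (g * t * g⁻¹) = g * (t * t) * g⁻¹ := by group
      _ = 1 := by rw [htt]; group
  have h8 : x ^ j * x ^ j = 1 := by
    have h9 : x ^ j * t = t * x ^ j := (c1.zpow_right j).symm
    calc x ^ j * x ^ j = (t * t) * (x ^ j * x ^ j) := by rw [htt, one_mul]
      _ = t * (t * x ^ j) * x ^ j := by group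
      _ = t * (x ^ j * t) * x ^ j := by rw [h9]
      _ = (t * x ^ j) * (t * x ^ j) := by group
      _ = 1 := h7
  have h9 : (x ^ j) ^ p = 1 := by rw [← zpow_natCast, ← zpow_mul, mul_comm, zpow_mul, zpow_natCast, hxp, one_zpow]
  have h10 : x ^ j = 1 := by
    obtain ⟨m, hm⟩ := hp2
    rw [hm, pow_succ, pow_mul, pow_two, h8, one_pow, one_mul] at h9
    exact h9
  rw [h10, mul_one, mul_inv_eq_iff_eq_mul] at h6
  exact h6

theorem pow_dvd {x : ↥InstData.M.G} (hx : orderOf x = 3) (e : XX x ≃* Spor.Fi24') {a b : Fi24} (P : TetFi24A.At a b)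
    {τ : Spor.Fi24'} (hτ : (τ : Fi24) = a * b) {t : ↥InstData.M.G} (ht : t * x = x * t) (htt : t * t = 1)
    (heu : e (mk x ht) = τ) : 3 ^ 10 ∣ Nat.card ↥(centralizer ({t} : Set ↥InstData.M.G)) := by
  have hfin := MFive.Row.finite_model
  let φ : ↥(centralizer ({x} : Set ↥InstData.M.G)) →* Spor.Fi24' := e.toMonoidHom.comp (QuotientGroup.mk' (Zx x))
  have hφs : Function.Surjective φ := e.surjective.comp (QuotientGroup.mk'_surjective _)
  have h1 := Subgroup.index_comap_of_surjective (N a b) hφs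
  have h2 : Nat.card ↥(centralizer ({x} : Set ↥InstData.M.G)) = 3 * Nat.card Spor.Fi24' := by
    rw [Subgroup.card_eq_card_quotient_mul_card_subgroup (Zx x), mul_comm]
    congr 1
    · show Nat.card ↥(Subgroup.zpowers (self x)) = 3
      rw [Nat.card_zpowers, ← Subgroup.orderOf_coe]
      exact hx
    · exact Nat.card_congr e.toEquiv
  have h3 := ((N a b).comap φ).card_mul_index
  have h4 := (N a b).card_mul_index
  rw [h1, h2, ← h4, ← mul_assoc] at h3
  have h5 : Nat.card ↥((N a b).comap φ) = 3 * Nat.card ↥(N a b) := by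
    have : Finite Spor.Fi24' := Finite.of_surjective φ hφs
    exact Nat.eq_of_mul_eq_mul_right (Nat.pos_of_ne_zero Subgroup.index_ne_zero_of_finite) h3
  have h6 : Nat.card ↥(N a b) = 2 * 64561751654400 := by
    rw [Nat.card_congr (eN a b).toEquiv, OddHalf.D4.Spor.FiTF.card_Cab P]
  have h7 : ((N a b).comap φ).map (centralizer ({x} : Set ↥InstData.M.G)).subtype ≤
      centralizer ({t} : Set ↥InstData.M.G) := by
    rintro _ ⟨g, hg, rfl⟩
    rw [mem_centralizer_singleton_iff]
    have hgx : (g : ↥InstData.M.G) * x = x * (g : ↥InstData.M.G) := mem_centralizer_singleton_iff.1 g.2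
    have h8 : e (mk x hgx) ∈ centralizer ({τ} : Set Spor.Fi24') := CTwoTab.FiTF.N_le hτ hg
    rw [← heu, mem_centralizer_singleton_iff, ← map_mul, ← map_mul] at h8
    exact comm_of_mk (by decide) hx hgx ht htt (e.injective h8)
  have h8 := Subgroup.card_dvd_of_le h7
  rw [Subgroup.card_map_of_injective (Subgroup.subtype_injective _), h5, h6] at h8
  exact (by norm_num : (3 : ℕ) ^ 10 ∣ 3 * (2 * 64561751654400)).trans h8

theorem baby_three (h : NB 3 Cfsg.Spor.Fi22) : NB 3 Cfsg.Spor.BabyMonster := by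
  have hp3 : Fact (Nat.Prime 3) := ⟨Nat.prime_three⟩
  have hfin := MFive.Row.finite_model
  obtain ⟨x, hx, ⟨e⟩⟩ := exists_fi
  obtain ⟨a, b, P, τ, hτ⟩ := exists_pair
  have hττ : τ * τ = 1 := by
    apply Subtype.ext
    show (τ : Fi24) * (τ : Fi24) = 1
    rw [hτ]
    calc a * b * (a * b) = a * (b * a) * b := by group
      _ = a * (a * b) * b := by rw [P.ab.eq]
      _ = (a * a) * (b * b) := by group
      _ = 1 := by rw [sq_L P.ha, sq_L P.hb, one_mul]
  have hτ1 : τ ≠ 1 := by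
    intro h1
    apply P.ne
    have h2 : a * b = 1 := by rw [← hτ, h1]; rfl
    rw [eq_comm, ← mul_right_inj a, h2, sq_L P.ha]
  obtain ⟨t, ht, htt, hu⟩ := exists_lift hx (u := e.symm τ) (by rw [← map_mul, hττ, map_one])
  have heu : e (mk x ht) = τ := by rw [hu, e.apply_symm_apply]
  have ht1 : t ≠ 1 := by
    rintro rfl
    apply hτ1
    rw [← heu, ← map_one e]
    rfl
  have hconj : ∃ g, g * tG LitFin.all.hG LitFin.all.hR * g⁻¹ = t := by
    rcases MFive.Row.two t htt ht1 with ⟨g, hg⟩ | h1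
    · exfalso
      have h2 := pow_dvd hx e P hτ ht htt heu
      obtain ⟨⟨e'⟩, -⟩ := exists_XX_equiv hg
      rw [← Nat.card_congr e'.toEquiv] at h2
      exact not_dvd_z h2
    · exact h1
  obtain ⟨hZ2, -, ⟨f⟩⟩ := ModelB.fields LitFin.all (NodesGrp.prel LitFin.H) (NodesNe.ne LitFin.H) LitFin.conj_ten
    Cfsg.Agent.S1704.result hconj
  refine NB.iso f ?_
  have htc := self_mem_center t
  have hZ : ∀ z ∈ Subgroup.center ↥(centralizer ({t} : Set ↥InstData.M.G)), z = 1 ∨ z = self t := by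
    intro z hz
    by_contra hcon
    push Not at hcon
    have hfz : Finite ↥(Subgroup.center ↥(centralizer ({t} : Set ↥InstData.M.G))) := inferInstance
    have := Fintype.ofFinite ↥(Subgroup.center ↥(centralizer ({t} : Set ↥InstData.M.G)))
    rw [Nat.card_eq_fintype_card] at hZ2
    have h3 : 2 < Fintype.card ↥(Subgroup.center ↥(centralizer ({t} : Set ↥InstData.M.G))) := by
      rw [Fintype.two_lt_card_iff]
      refine ⟨1, ⟨self t, htc⟩, ⟨z, hz⟩, ?_, ?_, ?_⟩
      · intro h1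
        have h2 : (1 : ↥(centralizer ({t} : Set ↥InstData.M.G))) = self t := congrArg Subtype.val h1
        have h3 : (1 : ↥InstData.M.G) = t := congrArg Subtype.val h2
        exact ht1 h3.symm
      · intro h1
        exact hcon.1 (congrArg Subtype.val h1).symm
      · intro h1
        exact hcon.2 (congrArg Subtype.val h1).symm
    omega
  refine of_cover_inv (p := 3) (by norm_num) hx ht htt hZ htc e.toMonoidHom e.injective (N a b) ?_ ?_ ?_
    (P.π.comp (eN a b).toMonoidHom) (P.lift.ext.surj.comp (eN a b).surjective) ?_ ?_ h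
  · intro c hc n hn
    have h1 : c * n * c⁻¹ = ⁅c, n⁆ * n := by rw [commutatorElement_def]; group
    rw [h1]
    have h2 : c ∈ centralizer ({τ} : Set Spor.Fi24') := by rw [← heu]; exact hc
    exact (N a b).mul_mem (comm_mem P hτ h2 (CTwoTab.FiTF.N_le hτ hn)) hn
  · rintro n -
    obtain ⟨y, rfl⟩ := e.surjective n
    exact ⟨y, rfl⟩
  · intro n hn
    have h2 := CTwoTab.FiTF.N_le hτ hn
    rw [← heu] at h2
    exact h2
  · intro n hn
    have h1 : P.π (eN a b n) = 1 := hn
    rw [P.lift.ext.ker] at h1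
    rcases h1 with h1 | h1
    · left
      exact (MulEquiv.map_eq_one_iff (eN a b)).1 h1
    · right
      have h2 : ((n : Spor.Fi24') : Fi24) = (P.z : Fi24) := congrArg Subtype.val h1
      apply Subtype.ext
      show ((n : Spor.Fi24') : Fi24) = ((e (mk x ht) : Spor.Fi24') : Fi24)
      rw [heu, h2, P.hz, hτ]
  · intro n hn
    show P.π (eN a b n) = 1
    rw [P.lift.ext.ker]
    right
    apply Subtype.ext
    show ((n : Spor.Fi24') : Fi24) = (P.z : Fi24)
    have h2 : (n : Spor.Fi24') = e (mk x ht) := hn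
    rw [h2, heu, hτ, P.hz]

end Cfsg.Agent.H493.NB
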