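import Cfsg.Agent.HN.AutHS
import Cfsg.Agent.H852.IMHS
import Cfsg.Agent.H978.NB.Char

/-!
# Nonprincipal `p`-blocks of `HS`, `p` odd (helper493; task 2482 of helper718)

`p = 5`: `y` of order 5 and `z` of order 3 commute, the points `0, 1, 3` of the graph are `0, y 0, y² 0` and their
pointwise stabiliser has order 96; so `5 ^ 3` does not divide `|C(y)|`.
`p = 3`: `y z` has order 15.
-/

set_option autoImplicit false
set_option maxRecDepth 100000

namespace Cfsg.Agent.H493.NB.HS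

open Cfsg Equiv Cfsg.Agent Cfsg.Agent.SporadicA.PermTab Cfsg.Agent.HN Cfsg.Agent.HN.HS100 Cfsg.Agent.H7.NBp
open Cfsg.Agent.H718.NBIH
open Subgroup (centralizer mem_centralizer_singleton_iff)

/-- an element of order 5 -/
def ty : ℕ := 0x6e0d80a83c020134318240bc1380a05a0b80101501f0520c82b0380a20a02586001c1600500d022098108420601540f04c07c06403818024114298160c41742485704e0001781308e1402202e0100b42084a0120d41f8230681642403b0380e40d80504402c060400620b01981d0be0ac0b8430a816c1d02507a1183082000413c078060a406801801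
/-- an element of order 3 -/
def tz : ℕ := 0x6211c270080bc01c0b84207a1442004f088184130620a40340485004e1580102b0340181a0390a81702080a0961180001207e0f8098200440a40183805e0441182d0940e80280e01e0b82482c0280d4190040b0090128550540600f01b06c0043005d07810c0c83b0380581404c0b61640f84d06e02c2980c06015c2d01d0be0cc3181509004010845

/-- the generators -/
def sel (x : Fin 3) : ℕ := [tX, tY, tW].getD x 0

theorem in_sel (x : Fin 3) : InG Q (sel x) := by
  fin_cases x
  · exact inX
  · exact inY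
  · exact inW

theorem in_word (w : List (Fin 3)) {S : ℕ} (h : chkWord 100 S (w.map sel) = true) : InG Q S :=
  InG.word (fun P hP => by
    obtain ⟨x, -, rfl⟩ := List.mem_map.1 hP
    exact in_sel x) h

theorem iny : InG Q ty := in_word
  [0, 1, 1, 1, 1, 1, 0, 2, 2, 2, 2, 2, 0, 2, 2, 2, 2, 2, 1, 1, 1, 1, 1, 1, 1, 1, 1, 1, 2, 2, 2, 2, 2, 1, 1, 1,
    1, 1, 2, 2, 2, 2, 2, 0, 1, 2, 1, 2, 2, 2, 2, 0, 1, 2, 1, 2, 2, 2, 2, 0, 1, 2, 1, 2, 2, 2, 2, 2, 1, 2, 1,
    1, 2, 0, 2, 0, 1, 0]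
  (by decide +kernel)

theorem inz : InG Q tz := in_word
  [0, 1, 1, 1, 1, 1, 0, 2, 2, 2, 2, 2, 0, 2, 2, 2, 2, 2, 1, 1, 1, 1, 1, 1, 1, 1, 1, 1, 2, 2, 2, 2, 2, 1, 1, 1,
    1, 1, 2, 2, 2, 2, 2, 0, 1, 2, 1, 2, 2, 2, 2, 0, 1, 2, 1, 2, 2, 2, 2, 0, 1, 2, 1, 2, 2, 2, 2, 0, 1, 2, 1,
    2, 2, 2, 2, 0, 1, 2, 1, 2, 2, 2, 2, 2, 1, 2, 1, 1, 2, 0, 2, 0, 1, 0]
  (by decide +kernel)

/-- the pointwise stabiliser of `0, 1, 3` -/
theorem card_Q3 : Nat.card Q3 = 96 := by
  have h5 : 1 ≤ Nat.card (ps Q4 2) := Nat.card_pos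
  have h4 : 3 * 1 ≤ Nat.card Q4 :=
    card_ge_of_chk (x := 2) (L := [s10]) in10 (by intro P hP; rw [List.mem_singleton.1 hP]; exact in10)
      (C := oc4) (by decide +kernel) (by decide +kernel) h5
  have h3 : 32 * (3 * 1) ≤ Nat.card Q3 :=
    card_ge_of_chk (x := 8) (L := [s7, s8, s9]) in7 (mem3 in7 in8 in9) (C := oc3) (by decide +kernel)
      (by decide +kernel) h4
  have h2 : 60 * Nat.card Q3 ≤ Nat.card Q2 :=
    card_ge_of_chk (x := 3) (L := [s5, s6]) in5 (mem2 in5 in6) (C := oc2) (by decide +kernel)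
      (by decide +kernel) le_rfl
  have h1 : 77 * Nat.card Q2 ≤ Nat.card Q1 :=
    card_ge_of_chk (x := 1) (L := [s3, s4]) in3 (mem2 in3 in4) (C := oc1) (by decide +kernel)
      (by decide +kernel) le_rfl
  have h0 : 100 * Nat.card Q1 ≤ Nat.card Q :=
    card_ge_of_chk (x := 0) (L := [tX, tY, tW]) inX (mem3 inX inY inW) (C := oc0) (by decide +kernel)
      (by decide +kernel) le_rfl
  rw [AutBound.card_Q] at h0
  omega

/-- the elements -/
theorem exists_yz : ∃ y z : ↥Q, (∀ i : Fin 100, ((y : Perm (Fin 100)) i : ℕ) = lk ty i) ∧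
    (∀ i : Fin 100, ((z : Perm (Fin 100)) i : ℕ) = lk tz i) ∧ orderOf y = 5 ∧ orderOf z = 3 ∧ z * y = y * z := by
  obtain ⟨y, hy, hyi⟩ := iny
  obtain ⟨z, hz, hzi⟩ := inz
  have h5 : y ^ 5 = 1 := by
    ext i
    have h1 : allB (fun i => Nat.beq (lk ty (lk ty (lk ty (lk ty (lk ty i))))) i) 100 = true := by decide +kernel
    have h2 := Nat.eq_of_beq_eq_true ((allB_iff _ _).1 h1 i i.2)
    simp only [pow_succ, pow_zero, one_mul, Perm.mul_apply, hyi, Perm.one_apply]
    exact h2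
  have h3 : z ^ 3 = 1 := by
    ext i
    have h1 : allB (fun i => Nat.beq (lk tz (lk tz (lk tz i))) i) 100 = true := by decide +kernel
    have h2 := Nat.eq_of_beq_eq_true ((allB_iff _ _).1 h1 i i.2)
    simp only [pow_succ, pow_zero, one_mul, Perm.mul_apply, hzi, Perm.one_apply]
    exact h2
  have hc : z * y = y * z := by
    ext i
    have h1 : allB (fun i => Nat.beq (lk tz (lk ty i)) (lk ty (lk tz i))) 100 = true := by decide +kernel
    have h2 := Nat.eq_of_beq_eq_true ((allB_iff _ _).1 h1 i i.2)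
    simp only [Perm.mul_apply, hyi, hzi]
    exact h2
  have hy1 : y ≠ 1 := by
    rintro rfl
    have h1 := hyi 0
    have h2 : lk ty ((0 : Fin 100) : ℕ) = 1 := by decide +kernel
    rw [h2] at h1
    simp at h1
  have hz1 : z ≠ 1 := by
    rintro rfl
    have h1 : allB (fun i => Nat.beq (lk tz i) i) 100 = false := by decide +kernel
    have h2 : allB (fun i => Nat.beq (lk tz i) i) 100 = true := by
      rw [allB_iff]
      intro i hi
      have h3 := hzi ⟨i, hi⟩
      have h4 : lk tz i = i := h3.symm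
      simp [h4]
    rw [h1] at h2
    exact absurd h2 (by decide)
  refine ⟨⟨y, hy⟩, ⟨z, hz⟩, hyi, hzi, ?_, ?_, Subtype.ext hc⟩
  · have : Fact (Nat.Prime 5) := ⟨Nat.prime_five⟩
    exact orderOf_eq_prime (Subtype.ext h5) (fun h => hy1 (congrArg Subtype.val h))
  · have : Fact (Nat.Prime 3) := ⟨Nat.prime_three⟩
    exact orderOf_eq_prime (Subtype.ext h3) (fun h => hz1 (congrArg Subtype.val h))

theorem not_dvd {y : ↥Q} (hy : ∀ i : Fin 100, ((y : Perm (Fin 100)) i : ℕ) = lk ty i) :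
    ¬ 5 ^ 3 ∣ Nat.card ↥(centralizer ({y} : Set ↥Q)) := by
  let C : Subgroup (Perm (Fin 100)) := (centralizer ({y} : Set ↥Q)).map Q.subtype
  have hC : Nat.card ↥C = Nat.card ↥(centralizer ({y} : Set ↥Q)) :=
    Subgroup.card_map_of_injective Q.subtype_injective
  rw [← hC, card_eq_mul_card_ps C 0]
  have h0 : (y : Perm (Fin 100)) 0 = 1 := Fin.ext (by rw [hy]; decide +kernel)
  have h1 : (y : Perm (Fin 100)) 1 = 3 := Fin.ext (by rw [hy]; decide +kernel)
  have hle : ps C 0 ≤ Q3 := by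
    rintro g ⟨⟨c, hc, rfl⟩, hg⟩
    have hc' : ∀ i : Fin 100, (c : Perm (Fin 100)) ((y : Perm (Fin 100)) i) = (y : Perm (Fin 100)) ((c : Perm (Fin 100)) i) := by
      intro i
      have h2 := congrArg Subtype.val (mem_centralizer_singleton_iff.1 hc)
      exact congrArg (fun f : Perm (Fin 100) => f i) h2
    have e0 : (c : Perm (Fin 100)) 0 = 0 := hg
    have e1 : (c : Perm (Fin 100)) 1 = 1 := by
      have h2 := hc' 0
      rwa [e0, h0] at h2
    have e3 : (c : Perm (Fin 100)) 3 = 3 := by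
      have h2 := hc' 1
      rwa [e1, h1] at h2
    exact ⟨⟨⟨c.2, e0⟩, e1⟩, e3⟩
  have h2 : Nat.card ↥(ps C 0) ∣ 96 := by
    rw [← card_Q3]
    exact Subgroup.card_dvd_of_le hle
  intro h
  have h3 : Nat.Coprime (5 ^ 3) (Nat.card ↥(ps C 0)) :=
    Nat.Coprime.coprime_dvd_right h2 (by norm_num)
  have h4 := h3.dvd_of_dvd_mul_right h
  have h5 : (MulAction.orbit C (0 : Fin 100)).ncard ≤ 100 := by
    have h6 := Set.ncard_le_ncard (Set.subset_univ (MulAction.orbit C (0 : Fin 100))) (Set.toFinite _)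
    rwa [Set.ncard_univ, Nat.card_fin] at h6
  have h6 : 0 < (MulAction.orbit C (0 : Fin 100)).ncard := by
    rw [Set.ncard_pos (Set.toFinite _)]
    exact ⟨0, MulAction.mem_orbit_self _⟩
  have h7 := Nat.le_of_dvd h6 h4
  norm_num at h7
  omega

end Cfsg.Agent.H493.NB.HS
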