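import Cfsg.Agent.H493.NB.Co1Three
import Cfsg.Agent.H493.NB.IMdz
import Cfsg.Agent.H143.NB.CoOneFive
import Cfsg.Agent.H368.NB.Sq
import Cfsg.Agent.H843.IMC.RowsA
import Cfsg.Agent.NotCT.Orders
import Cfsg.Agent.H852.IMSuz

/-!
# Nonprincipal `p`-blocks of `Co₁`, `p` odd (helper493, for helper718)
-/

set_option autoImplicit false

namespace Cfsg.Agent.H493.NB

open Cfsg Cfsg.Agent Cfsg.Agent.H7.NBp Cfsg.Agent.H718.NBIH Cfsg.Agent.H978.NB Subgroup

/-- **`Co₁`** -/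
theorem nb_co1 {p : ℕ} [hp : Fact p.Prime] (h2 : p ≠ 2) (S : Type) [Group S] [Finite S] [IsSimpleGroup S]
    (h : Cfsg.Spor.IsoCo1 S) (ih : IH p (Nat.card S)) : NB p S := by
  have hc : Nat.card S = 4157776806543360000 := NotCT.Orders.co1 h
  by_cases hd : p ∣ Nat.card S
  swap
  · exact NB.of_not_dvd hd
  have hm : p ∈ [2, 3, 5, 7, 11, 13, 23] :=
    H852.IMSuz.prime_cases' hp.out [2, 3, 5, 7, 11, 13, 23] (by decide) 21 (n := Nat.card S) hd (by rw [hc]; norm_num)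
  simp only [List.mem_cons, List.not_mem_nil, or_false] at hm
  have hIM := Cfsg.Agent.H843.IMC.Rows.im_co1 h hd
  rcases hm with rfl | rfl | rfl | rfl | rfl | rfl | rfl
  · exact absurd rfl h2
  · exact nb_co1_three S h ih
  · exact H143.NB.CoOneFive.nb_co1_five S h ih
  · exact Cfsg.Agent.H368.NBSq.NB.of_IM_sq hIM (by rw [hc]; norm_num)
  · exact of_IM hIM (by rw [hc]; norm_num)
  · exact of_IM hIM (by rw [hc]; norm_num)
  · exact of_IM hIM (by rw [hc]; norm_num)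

end Cfsg.Agent.H493.NB
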