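import Cfsg.Agent.H493.NB.HS
import Cfsg.Agent.H493.NB.IMdz
import Cfsg.Agent.H852.IMMcL
import Cfsg.Agent.H678.DG.McLDeg

/-!
# Nonprincipal `p`-blocks of `HS` and `McL`, `p` odd (helper493; task 2482 of helper718)
-/

set_option autoImplicit false

namespace Cfsg.Agent.H493.NB

open Cfsg Cfsg.Agent Cfsg.Agent.H7.NBp Cfsg.Agent.H718.NBIH Cfsg.Agent.H978.NB Cfsg.Agent.HN.HS100
open Cfsg.Agent.H904.McLCent Cfsg.Agent.McLType.X275 Cfsg.Agent.McLType.Gens Cfsg.Agent.H678.DG

/-- a simple group of order divisible by 4 is not commutative -/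
theorem not_comm' {T : Type*} [Group T] [IsSimpleGroup T] {n : ℕ} (hn : Nat.card T = n) (h4 : 4 ∣ n) :
    ¬ IsMulCommutative T := by
  intro h
  let _ : CommGroup T := { (inferInstance : Group T) with mul_comm := h.is_comm.comm }
  have h3 : (Nat.card T).Prime := IsSimpleGroup.prime_card
  rw [hn] at h3
  have h5 : (2 : ℕ) ∣ n := (by norm_num : (2 : ℕ) ∣ 4).trans h4
  have h6 := (Nat.prime_dvd_prime_iff_eq Nat.prime_two h3).1 h5
  rw [← h6] at h4
  norm_num at h4

/-- **`HS`** -/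
theorem nb_hs {p : ℕ} [hp : Fact p.Prime] (h2 : p ≠ 2) (S : Type) [Group S] [Finite S] [IsSimpleGroup S]
    (h : Cfsg.Spor.IsoHS S) (ih : IH p (Nat.card S)) : NB p S := by
  have hc : Nat.card S = 44352000 := NotCT.Orders.hs h
  by_cases hd : p ∣ Nat.card S
  swap
  · exact NB.of_not_dvd hd
  have hm : p ∈ [2, 3, 5, 7, 11] :=
    H852.IMSuz.prime_cases' hp.out [2, 3, 5, 7, 11] (by decide) 9 (n := Nat.card S) hd (by rw [hc]; norm_num)
  simp only [List.mem_cons, List.not_mem_nil, or_false] at hm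
  have hIM := H852.IMHS.im_hs h hd
  obtain ⟨⟨f⟩, hs⟩ := HN.AutHS.nonempty_Q
  have hq : ∀ q : ℕ, ∀ [Fact q.Prime], q = 3 ∨ q = 5 → IH q 44352000 → NB q ↥Q := by
    intro q _ hq ih'
    obtain ⟨y, z, hy, hz, hy5, hz3, hzy⟩ := HS.exists_yz
    have hcQ : Nat.card ↥Q = 44352000 := HN.AutBound.card_Q
    have hna : ¬ IsMulCommutative ↥Q := not_comm' hcQ (by norm_num)
    rcases hq with rfl | rfl
    · refine nb_of_commute hna (by rw [hcQ]; exact ih') (r := 5) (a := 2) hz3 (by norm_num) (by norm_num) hy5 hzy.symm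
        ?_ ?_
      · intro h3
        have h4 := h3.trans (Subgroup.card_subgroup_dvd_card _)
        rw [hcQ] at h4
        norm_num at h4
      · intro j hj hj2
        obtain rfl : j = 1 := by omega
        norm_num
    · refine nb_of_commute hna (by rw [hcQ]; exact ih') (r := 3) (a := 2) hy5 (by norm_num) (by norm_num) hz3 hzy
        (HS.not_dvd hy) ?_
      intro j hj hj2
      obtain rfl : j = 1 := by omega
      norm_num
  obtain ⟨e⟩ := h
  rw [hc] at ih
  rcases hm with rfl | rfl | rfl | rfl | rfl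
  · exact absurd rfl h2
  · exact NB.iso (f.trans e.symm) (hq 3 (Or.inl rfl) ih)
  · exact NB.iso (f.trans e.symm) (hq 5 (Or.inr rfl) ih)
  · exact of_IM hIM (by rw [hc]; norm_num)
  · exact of_IM hIM (by rw [hc]; norm_num)

/-- **`McL`** -/
theorem nb_mcl {p : ℕ} [hp : Fact p.Prime] (h2 : p ≠ 2) (S : Type) [Group S] [Finite S] [IsSimpleGroup S]
    (h : Cfsg.Spor.IsoMcL S) (_ih : IH p (Nat.card S)) : NB p S := by
  have hc : Nat.card S = 898128000 := NotCT.Orders.mcl h
  by_cases hd : p ∣ Nat.card S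
  swap
  · exact NB.of_not_dvd hd
  have hm : p ∈ [2, 3, 5, 7, 11] :=
    H852.IMSuz.prime_cases' hp.out [2, 3, 5, 7, 11] (by decide) 7 (n := Nat.card S) hd (by rw [hc]; norm_num)
  simp only [List.mem_cons, List.not_mem_nil, or_false] at hm
  have hIM := H852.IMMcL.im_mcl h hd
  obtain ⟨θ, R⟩ := exists_rep h
  let f : S ≃* K0 := (MonoidHom.ofInjective R.inj).trans (MulEquiv.subgroupCongr R.range)
  have hc0 := McLDeg.card_K0
  have hfin : Finite K0 := Finite.of_equiv S f.toEquiv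
  rcases hm with rfl | rfl | rfl | rfl | rfl
  · exact absurd rfl h2
  · obtain ⟨χ, hχ⟩ := McLDeg.deg_5103
    exact NB.iso f.symm (of_deg χ (k := 6) (by norm_num) (by rw [hχ]; norm_num) (by rw [hc0]; norm_num))
  · obtain ⟨χ, hχ⟩ := McLDeg.deg_4500
    exact NB.iso f.symm (of_deg χ (k := 3) (by norm_num) (by rw [hχ]; norm_num) (by rw [hc0]; norm_num))
  · exact of_IM hIM (by rw [hc]; norm_num)
  · exact of_IM hIM (by rw [hc]; norm_num)

end Cfsg.Agent.H493.NB
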