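import Cfsg.Agent.H935.RuM.Mon
import Cfsg.Agent.BabyComp.BaseB
import Cfsg.Agent.BM.KHAll
import Cfsg.Agent.H7.NBpCount

/-!
# Nonprincipal `p`-blocks of `B` (`p ≥ 5`) and of `M` (`p ≥ 7`) (helper493)

The classes of `{3,4}`-transpositions and of `6`-transpositions.
-/

set_option autoImplicit false

namespace Cfsg.Agent.H493.NB

open Cfsg Cfsg.Agent Cfsg.Agent.H7.NBp
open Cfsg.Agent.MonsterX Cfsg.Agent.MonsterX.InstData Cfsg.Agent.MonsterX.MainPack Cfsg.Agent.MonsterX.MainSimple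
open Cfsg.Agent.MonsterX.MainBasic Cfsg.Agent.MonsterN

/-- a class of involutions `t` with all products `t t^g` of order `< p` -/
theorem of_transp {p : ℕ} [hp : Fact p.Prime] (hp2 : p ≠ 2) {G : Type*} [Group G] [Finite G] {t : G}
    (htt : t * t = 1) (ht : t ≠ 1) (h : ∀ g : G, ∃ n : ℕ, 0 < n ∧ n < p ∧ (t * (g * t * g⁻¹)) ^ n = 1) :
    NB p G := by
  have hodd : ¬ ∃ j : ℕ, t ^ p ^ j = 1 := by
    rintro ⟨j, hj⟩
    have h1 : orderOf t ∣ p ^ j := orderOf_dvd_of_pow_eq_one hj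
    have h2 : orderOf t = 2 := orderOf_eq_prime (by rw [pow_two]; exact htt) ht
    rw [h2] at h1
    have h3 := Nat.prime_two.dvd_of_dvd_pow h1
    exact hp2 ((Nat.prime_dvd_prime_iff_eq Nat.prime_two hp.out).1 h3).symm
  refine NB.of_unique (K := {k : G | IsConj t k})
    (fun x k hk => IsConj.trans hk (isConj_iff.2 ⟨x, rfl⟩)) hodd (IsConj.refl t) ?_
  intro k hk j hj
  obtain ⟨g, rfl⟩ := isConj_iff.1 hk
  have hinv : (g * t * g⁻¹)⁻¹ = g * t * g⁻¹ := by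
    rw [inv_eq_iff_mul_eq_one]
    calc g * t * g⁻¹ * (g * t * g⁻¹) = g * (t * t) * g⁻¹ := by group
      _ = 1 := by rw [htt]; group
  rw [hinv] at hj
  obtain ⟨n, h0, hn, h1⟩ := h g
  have hc : Nat.Coprime (p ^ j) n :=
    Nat.Coprime.pow_left j ((Nat.Prime.coprime_iff_not_dvd hp.out).2 (Nat.not_dvd_of_pos_of_lt h0 hn))
  have h2 : orderOf (t * (g * t * g⁻¹)) = 1 := by
    apply Nat.eq_one_of_dvd_coprimes hc (orderOf_dvd_of_pow_eq_one hj) (orderOf_dvd_of_pow_eq_one h1)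
  have h3 : t * (g * t * g⁻¹) = 1 := orderOf_eq_one_iff.1 h2
  have h4 : g * t * g⁻¹ = t⁻¹ := eq_inv_of_mul_eq_one_right h3
  rw [h4, inv_eq_iff_mul_eq_one]
  exact htt

/-- **The Monster, `p ≥ 7`.** -/
theorem monster {p : ℕ} [hp : Fact p.Prime] (h7 : 7 ≤ p) : NB p Cfsg.Spor.Monster := by
  obtain ⟨f⟩ := Cfsg.Agent.MonsterP.Equiv.equiv
  refine NB.iso f.symm ?_
  have := MFive.Row.finite_model
  have hf := MonsterX.MainPack.babyHyp LitFin.all.hG LitFin.all.hR LitFin.all.hL LitFin.all.hO LitFin.all.hT LitFin.all.hB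
  refine of_transp (t := tG LitFin.all.hG LitFin.all.hR) (by omega) hf.tt hf.t1 fun g => ?_
  have h1 := H935.RuM.six g
  refine ⟨_, orderOf_pos _, lt_of_le_of_lt h1 (by omega), pow_orderOf_eq_one _⟩

/-- **The Baby Monster, `p ≥ 5`.** -/
theorem baby {p : ℕ} [hp : Fact p.Prime] (h5 : 5 ≤ p) : NB p Cfsg.Spor.BabyMonster := by
  have hB : Nat.card Cfsg.Spor.BabyMonster = 4154781481226426191177580544000000 := BM.KHAll.card_B
  have hfin : Finite Cfsg.Spor.BabyMonster := Nat.finite_of_card_ne_zero (by rw [hB]; norm_num)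
  obtain ⟨M₁, Bs⟩ := BabyComp.BaseB.exists_base (IsConj.refl _)
  set t : Cfsg.Spor.BabyMonster := PresentedGroup.of Cfsg.Spor.BabyMonster.Gen.t1 with ht
  have h1 : t ≠ 1 := by
    intro h
    have h2 := BM.KHAll.card_cent Cfsg.Spor.BabyMonster.Gen.t1
    have h3 : BM.StageBFinalOf.gB Cfsg.Spor.BabyMonster.Gen.t1 = 1 := h
    rw [h3, (Subgroup.centralizer_eq_top_iff_subset.2 (by simp : ({1} : Set Cfsg.Spor.BabyMonster) ⊆ _)),
      Subgroup.card_top, hB] at h2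
    norm_num at h2
  have h2 : t * t = 1 := by
    have h3 : (FreeGroup.of Cfsg.Spor.BabyMonster.Gen.t1 * FreeGroup.of Cfsg.Spor.BabyMonster.Gen.t1) ^ 1 ∈
        Cfsg.Spor.coxRelators Cfsg.Spor.BabyMonster.edges ∪ {r | r ∈ Cfsg.Spor.BabyMonster.extra} := by
      left
      exact ⟨Cfsg.Spor.BabyMonster.Gen.t1, by simp [Cfsg.Spor.coxNodes, Cfsg.Spor.BabyMonster.edges],
        Cfsg.Spor.BabyMonster.Gen.t1, by simp [Cfsg.Spor.coxNodes, Cfsg.Spor.BabyMonster.edges], by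
          simp [Cfsg.Spor.coxLabel]⟩
    have h4 := PresentedGroup.one_of_mem h3
    rw [pow_one, map_mul] at h4
    exact h4
  refine of_transp (t := t) (by omega) h2 h1 fun g => ?_
  obtain ⟨n, h0, h4, hn⟩ := Bs.ord (g * t * g⁻¹) (isConj_iff.2 ⟨g, rfl⟩)
  refine ⟨n, h0, by omega, ?_⟩
  have e : t * (g * t * g⁻¹) = t * (g * t * g⁻¹ * t) * t⁻¹ := by group
  rw [e, conj_pow, hn, mul_one, mul_inv_cancel]

end Cfsg.Agent.H493.NB
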